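import Groth.Agent.TateLib.Delta
import Groth.Agent.QFDualLib.Noether
import Mathlib.RingTheory.Finiteness.Projective

/-!
# Tate's element for finite projective square presentations

The element `Δ` gives `ω_{B/A} ≅ B` for a finite projective square presentation, and it does not depend on
the chosen matrix when the system is regular.
-/

set_option autoImplicit false

universe u

open MvPolynomial TensorProduct

namespace InvGorLib

variable {A : Type u} [CommRing A] {n : ℕ} {B : Type u} [CommRing B] [Algebra A B]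

theorem exists_dual_family [Module.Projective A B] [Module.Finite A B] :
    ∃ (m : ℕ) (x : Fin m → B) (c : Fin m → (B →ₗ[A] A)), ∀ y, ∑ i, c i y • x i = y := by
  obtain ⟨m, f, g, -, -, hfg⟩ := Module.Finite.exists_comp_eq_id_of_projective A B
  refine ⟨m, fun i => f (Pi.single i 1), fun i => (LinearMap.proj i).comp g, fun y => ?_⟩
  have h := LinearMap.congr_fun hfg y
  rw [LinearMap.comp_apply, LinearMap.id_apply, pi_eq_sum_univ (g y), map_sum] at h
  refine Eq.trans (Finset.sum_congr rfl fun i _ => ?_) h
  rw [map_smul, LinearMap.comp_apply, LinearMap.proj_apply]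
  show g y i • f (Pi.single i 1) = _
  congr 2
  funext j
  simp [Pi.single_apply, eq_comm]

theorem pair_coord_family {m : ℕ} {x : Fin m → B} {c : Fin m → (B →ₗ[A] A)} (h : ∀ y, ∑ i, c i y • x i = y)
    (ξ : B ⊗[A] B) : ∑ i, x i ⊗ₜ[A] QFDualLib.pair ξ ⟨c i⟩ = ξ := by
  induction ξ using TensorProduct.induction_on with
  | zero => simp [QFDualLib.pair]
  | add u v hu hv => simp only [QFDualLib.pair_add, tmul_add, Finset.sum_add_distrib, hu, hv]
  | tmul u v =>
    simp only [QFDualLib.pair_tmul, ← smul_tmul, ← TensorProduct.sum_tmul, h u]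

variable {φ : MvPolynomial (Fin n) A →ₐ[A] B} {f : Fin n → MvPolynomial (Fin n) A}
  (hφ : Function.Surjective φ) (hker : RingHom.ker φ.toRingHom = Ideal.span (Set.range f))
  {b : Matrix (Fin n) (Fin n) (MvPolynomial (Fin n) B)}
  (hb : ∀ i, map (algebraMap A B) (f i) = ∑ j, b i j * (X j - C (φ (X j))))

include hφ hker hb in
theorem pair_delta_surjective [Module.Projective A B] [Module.Finite A B] :
    Function.Surjective (QFDualLib.pairHom (TateLib.delta_mem hφ hker hb)) := by
  classical
  rw [← LinearMap.range_eq_top]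
  by_contra hne
  obtain ⟨M, hM, hle⟩ := Ideal.exists_le_maximal _ hne
  let _ : Field (B ⧸ M) := Ideal.Quotient.field M
  let π : B →ₐ[A] B ⧸ M := Ideal.Quotient.mkₐ A M
  let fK : Fin n → MvPolynomial (Fin n) (B ⧸ M) := fun i => map (algebraMap A (B ⧸ M)) (f i)
  let Q := MvPolynomial (Fin n) (B ⧸ M) ⧸ Ideal.span (Set.range fK)
  let γ : MvPolynomial (Fin n) A →ₐ[A] Q :=
    (Ideal.Quotient.mkₐ A (Ideal.span (Set.range fK))).comp (mapAlgHom (Algebra.ofId A (B ⧸ M)))
  have hγ : ∀ p ∈ RingHom.ker φ.toRingHom, γ p = 0 := by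
    intro p hp
    rw [hker] at hp
    refine (Ideal.Quotient.eq_zero_iff_mem).2 ?_
    have := Ideal.mem_map_of_mem (map (algebraMap A (B ⧸ M))) hp
    rw [Ideal.map_span, ← Set.range_comp] at this
    exact this
  let β : B →ₐ[A] Q := (Ideal.Quotient.liftₐ _ γ hγ).comp
    (Ideal.quotientKerAlgEquivOfSurjective (f := φ) hφ).symm.toAlgHom
  have hβ : ∀ p, β (φ p) = γ p := fun p => by
    show Ideal.Quotient.liftₐ _ γ hγ ((Ideal.quotientKerAlgEquivOfSurjective hφ).symm (φ p)) = γ p
    rw [Ideal.quotientKerAlgEquivOfSurjective_symm_apply]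
    rfl
  let ι : (B ⧸ M) →ₐ[A] Q := IsScalarTower.toAlgHom A (B ⧸ M) Q
  let Φ : B ⊗[A] B →ₐ[A] Q := Algebra.TensorProduct.lift β (ι.comp π) (fun x y => @Commute.all Q _ _ _)
  have hΦθ : ∀ q, Φ (TateLib.theta φ q) = Ideal.Quotient.mk _ (map π.toRingHom q) := by
    intro q
    refine RingHom.congr_fun (ringHom_ext (f := Φ.toRingHom.comp (TateLib.theta φ))
      (g := (Ideal.Quotient.mk (Ideal.span (Set.range fK))).comp (map π.toRingHom)) (fun y => ?_) (fun j => ?_)) q
    · simp [TateLib.theta, Φ, ι]
      rfl
    · simp [TateLib.theta, Φ, hβ, γ]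
  let ψ : (B ⧸ M) ⊗[A] B →ₐ[B ⧸ M] Q :=
    Algebra.TensorProduct.lift (Algebra.ofId (B ⧸ M) Q) β (fun x y => @Commute.all Q _ _ _)
  have hψ : Function.Surjective ψ := by
    intro y
    obtain ⟨q, rfl⟩ := Ideal.Quotient.mk_surjective y
    induction q using MvPolynomial.induction_on with
    | C c => exact ⟨c ⊗ₜ 1, by simp [ψ]; rfl⟩
    | add p q hp hq =>
      obtain ⟨x, hx⟩ := hp; obtain ⟨y, hy⟩ := hq
      exact ⟨x + y, by rw [map_add, map_add, hx, hy]⟩
    | mul_X p j hp =>
      obtain ⟨x, hx⟩ := hp
      exact ⟨x * ((1 : B ⧸ M) ⊗ₜ φ (X j)), by simp [map_mul, hx, ψ, hβ, γ]⟩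
  have : Module.Finite (B ⧸ M) Q := Module.Finite.of_surjective ψ.toLinearMap hψ
  obtain ⟨m, x, c, hxc⟩ := exists_dual_family (A := A) (B := B)
  refine TateLib.det_notMem (fun j => π (φ (X j))) fK (b.map (map π.toRingHom)) (fun i => ?_) ?_
  · have h := congrArg (map π.toRingHom) (hb i)
    rw [MvPolynomial.map_map, show π.toRingHom.comp (algebraMap A B) = algebraMap A (B ⧸ M) from π.comp_algebraMap,
      map_sum] at h
    refine h.trans (Finset.sum_congr rfl fun j _ => ?_)
    simp
  · rw [← RingHom.mapMatrix_apply, ← RingHom.map_det, ← Ideal.Quotient.eq_zero_iff_mem, ← hΦθ,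
      ← pair_coord_family hxc (TateLib.theta φ b.det), map_sum]
    refine Finset.sum_eq_zero fun i _ => ?_
    have hmem : QFDualLib.pair (TateLib.theta φ b.det) ⟨c i⟩ ∈ M :=
      hle ⟨⟨c i⟩, rfl⟩
    rw [Algebra.TensorProduct.lift_tmul]
    refine mul_eq_zero_of_right _ ?_
    show ι (π (QFDualLib.pair (TateLib.theta φ b.det) ⟨c i⟩)) = 0
    rw [show π (QFDualLib.pair (TateLib.theta φ b.det) ⟨c i⟩) = 0 from Ideal.Quotient.eq_zero_iff_mem.2 hmem]
    exact map_zero ι

theorem swap_identity (ξ : B ⊗[A] B) (l m : Disc.Omega A B) :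
    m.toLinearMap (QFDualLib.pair ξ l) = l.toLinearMap (QFDualLib.pair (TensorProduct.comm A B B ξ) m) := by
  induction ξ using TensorProduct.induction_on with
  | zero => simp [QFDualLib.pair]
  | add u v hu hv => simp only [map_add, QFDualLib.pair_add, hu, hv]
  | tmul u v => simp [QFDualLib.pair_tmul, mul_comm]

theorem comm_left_mul (x : B) (ξ : B ⊗[A] B) :
    TensorProduct.comm A B B ((x ⊗ₜ[A] (1 : B)) * ξ) = ((1 : B) ⊗ₜ[A] x) * TensorProduct.comm A B B ξ := by
  induction ξ using TensorProduct.induction_on with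
  | zero => simp
  | add u v hu hv => simp only [mul_add, map_add, hu, hv]
  | tmul u v => simp

/-- An annihilating element with surjective pairing gives a perfect pairing. -/
theorem pairHom_bijective_of_surjective {ξ : B ⊗[A] B}
    (h : ξ ∈ Submodule.annihilator (RingHom.ker (Algebra.TensorProduct.lmul' (S := B) A)))
    (hs : Function.Surjective (QFDualLib.pairHom h)) : Function.Bijective (QFDualLib.pairHom h) := by
  refine ⟨?_, hs⟩
  obtain ⟨θ, hθ⟩ := hs 1
  let c := QFDualLib.pair (TensorProduct.comm A B B ξ) θ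
  have key : ∀ (l : Disc.Omega A B) (x : B),
      θ.toLinearMap (x * QFDualLib.pairHom h l) = l.toLinearMap (x * c) := by
    intro l x
    show θ.toLinearMap (x * QFDualLib.pair ξ l) = l.toLinearMap (x * c)
    rw [← QFDualLib.pair_right_mul, (QFDualLib.mem_annihilator_iff ξ).1 h x, swap_identity, comm_left_mul,
      QFDualLib.pair_right_mul]
  have hc : c = 1 := by
    have h1 : (c - 1) • θ = 0 := by
      refine Disc.Omega.ext (LinearMap.ext fun x => ?_)
      rw [Disc.Omega.smul_toLinearMap_apply, sub_mul, one_mul, map_sub]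
      have := key θ x
      rw [hθ, mul_one] at this
      rw [mul_comm c, ← this, sub_self]
      rfl
    have h2 := congrArg (QFDualLib.pairHom h) h1
    rwa [map_smul, hθ, map_zero, smul_eq_mul, mul_one, sub_eq_zero] at h2
  intro l l' hll
  refine Disc.Omega.ext (LinearMap.ext fun x => ?_)
  have h1 := key l x
  have h2 := key l' x
  rw [hc, mul_one] at h1 h2
  rw [← h1, ← h2, hll]

include hφ hker hb in
theorem pair_delta_bijective [Module.Projective A B] [Module.Finite A B] :
    Function.Bijective (QFDualLib.pairHom (TateLib.delta_mem hφ hker hb)) :=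
  pairHom_bijective_of_surjective _ (pair_delta_surjective hφ hker hb)

omit hφ hker in
theorem adjugate_mem {R : Type u} [CommRing R] (M : Matrix (Fin n) (Fin n) R) (v : Fin n → R) (I : Ideal R)
    (h : ∀ k, ∑ j, M k j * v j ∈ I) (j : Fin n) : M.det * v j ∈ I := by
  have h1 := congrArg (fun N : Matrix (Fin n) (Fin n) R => N.mulVec v j) (Matrix.adjugate_mul M)
  simp only [← Matrix.mulVec_mulVec, Matrix.smul_mulVec, Matrix.one_mulVec, Pi.smul_apply, smul_eq_mul] at h1
  rw [← h1, Matrix.mulVec, dotProduct]
  exact Submodule.sum_mem _ fun k _ => Ideal.mul_mem_left _ _ (h k)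

/-- The element `Δ` does not depend on the matrix. -/
theorem theta_det_eq {b b' : Matrix (Fin n) (Fin n) (MvPolynomial (Fin n) B)}
    (hker : RingHom.ker φ.toRingHom = Ideal.span (Set.range f))
    (hb : ∀ i, map (algebraMap A B) (f i) = ∑ j, b i j * (X j - C (φ (X j))))
    (hb' : ∀ i, map (algebraMap A B) (f i) = ∑ j, b' i j * (X j - C (φ (X j))))
    (hreg : ∀ (i : Fin n) (q : MvPolynomial (Fin n) B),
      map (algebraMap A B) (f i) * q ∈ Ideal.span ((fun k => map (algebraMap A B) (f k)) '' {k | k ≠ i}) →
      q ∈ Ideal.span ((fun k => map (algebraMap A B) (f k)) '' {k | k ≠ i})) :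
    TateLib.theta φ b.det = TateLib.theta φ b'.det := by
  classical
  let v : Fin n → MvPolynomial (Fin n) B := fun j => X j - C (φ (X j))
  let F : Fin n → MvPolynomial (Fin n) B := fun i => map (algebraMap A B) (f i)
  let I := Ideal.span (Set.range F)
  have step : ∀ (M : Matrix (Fin n) (Fin n) (MvPolynomial (Fin n) B)), (∀ k, F k = ∑ j, M k j * v j) →
      ∀ (i : Fin n) (r : Fin n → MvPolynomial (Fin n) B), F i = ∑ j, r j * v j →
      (M.updateRow i r).det - M.det ∈ I := by
    intro M hM i r hr
    have hMi : M = M.updateRow i (M i) := (Matrix.updateRow_eq_self M i).symm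
    have hw : ∑ j, (r j - M i j) * v j = 0 := by
      simp only [sub_mul, Finset.sum_sub_distrib]
      rw [← hr, ← hM i, sub_self]
    have hd : (M.updateRow i r).det = (M.updateRow i (fun j => r j - M i j)).det + M.det := by
      conv_rhs => arg 2; rw [hMi]
      rw [← Matrix.det_updateRow_add]
      congr 2
      funext j
      simp
    rw [hd, add_sub_cancel_right]
    set N := M.updateRow i (fun j => r j - M i j) with hN
    let I' := Ideal.span (F '' {k | k ≠ i})
    have hI' : ∀ k, ∑ j, N k j * v j ∈ I' := fun k => by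
      by_cases hk : k = i
      · subst hk
        simp only [hN, Matrix.updateRow_self, hw]
        exact Ideal.zero_mem _
      · simp only [hN, Matrix.updateRow_ne hk]
        rw [← hM k]
        exact Ideal.subset_span ⟨k, hk, rfl⟩
    have hFi : F i * N.det ∈ I' := by
      rw [hM i, Finset.sum_mul]
      refine Submodule.sum_mem _ fun j _ => ?_
      rw [mul_assoc, mul_comm (v j)]
      exact Ideal.mul_mem_left _ _ (adjugate_mem N v I' hI' j)
    exact Ideal.span_mono (Set.image_subset_range _ _) (hreg i N.det hFi)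
  have hmem : b'.det - b.det ∈ I := by
    suffices h : ∀ s : Finset (Fin n), (Matrix.of fun k => if k ∈ s then b' k else b k).det - b.det ∈ I by
      have e : (Matrix.of fun k => if k ∈ (Finset.univ : Finset (Fin n)) then b' k else b k) = b' := by ext; simp
      have h' := h Finset.univ
      rwa [e] at h'
    intro s
    induction s using Finset.induction_on with
    | empty =>
      have e : (Matrix.of fun k => if k ∈ (∅ : Finset (Fin n)) then b' k else b k) = b := by ext; simp
      rw [e, sub_self]
      exact Ideal.zero_mem _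
    | insert i s hi ih =>
      let M : Matrix (Fin n) (Fin n) (MvPolynomial (Fin n) B) := Matrix.of fun k => if k ∈ s then b' k else b k
      have hM : ∀ k, F k = ∑ j, M k j * v j := fun k => by
        by_cases hk : k ∈ s
        · simp only [M, Matrix.of_apply, hk, if_true]; exact hb' k
        · simp only [M, Matrix.of_apply, hk, if_false]; exact hb k
      have hupd : (Matrix.of fun k => if k ∈ insert i s then b' k else b k) = M.updateRow i (b' i) := by
        ext k j
        by_cases hk : k = i
        · subst hk; simp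
        · simp [M, Matrix.updateRow_ne hk, hk]
      rw [hupd]
      have := Submodule.add_mem _ (step M hM i (b' i) (hb' i)) ih
      convert this using 1
      ring
  have hzero : ∀ q ∈ I, TateLib.theta φ q = 0 := by
    intro q hq
    induction hq using Submodule.span_induction with
    | mem q hq =>
      obtain ⟨i, rfl⟩ := hq
      rw [TateLib.theta_map, show φ (f i) = 0 from
        RingHom.mem_ker.1 (hker.ge (Ideal.subset_span ⟨i, rfl⟩)), zero_tmul]
    | zero => simp
    | add x y _ _ hx hy => rw [map_add, hx, hy, add_zero]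
    | smul a x _ hx => rw [smul_eq_mul, map_mul, hx, mul_zero]
  have := hzero _ hmem
  rw [map_sub, sub_eq_zero] at this
  exact this.symm

end InvGorLib
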