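import Groth.Agent.InvGorLib.Delta
import Groth.Agent.TateLib.Fibres
import Groth.Agent.GorLib.Fibres
import Groth.Agent.GorLib.Polynomial
import Groth.Agent.CMFlatLib.QFFlat
import Groth.Agent.CMFlatLib.Dim
import Groth.Agent.DualCxLib.QuotDual
import Mathlib.RingTheory.NoetherNormalization
import Mathlib.RingTheory.Invariant.Basic
import Mathlib.RingTheory.Flat.EquationalCriterion

/-!
# Watanabe's theorem: invariants of a finite subgroup of `SL_n` of invertible order are Gorenstein
-/

set_option autoImplicit false

universe u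

open MvPolynomial TensorProduct

namespace InvGorLib

noncomputable section

/-- A copy of the polynomial ring, serving as ring of parameters. -/
def Base (k : Type u) [Field k] (n : ℕ) : Type u := MvPolynomial (Fin n) k

variable {k : Type u} [Field k] {n : ℕ}

instance : CommRing (Base k n) := inferInstanceAs (CommRing (MvPolynomial (Fin n) k))
instance : Algebra k (Base k n) := inferInstanceAs (Algebra k (MvPolynomial (Fin n) k))
instance : IsDomain (Base k n) := inferInstanceAs (IsDomain (MvPolynomial (Fin n) k))
instance : IsRegularRing (Base k n) := inferInstanceAs (IsRegularRing (MvPolynomial (Fin n) k))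
instance : Algebra.FiniteType k (Base k n) := inferInstanceAs (Algebra.FiniteType k (MvPolynomial (Fin n) k))

/-- the variables of the base -/
def tv (i : Fin n) : Base k n := (X i : MvPolynomial (Fin n) k)

theorem base_hom_ext {R : Type*} [CommRing R] {f g : Base k n →+* R}
    (hC : ∀ c : k, f (algebraMap k (Base k n) c) = g (algebraMap k (Base k n) c))
    (hX : ∀ i, f (tv i) = g (tv i)) (x : Base k n) : f x = g x :=
  RingHom.congr_fun (MvPolynomial.ringHom_ext (f := (f : MvPolynomial (Fin n) k →+* R))
    (g := (g : MvPolynomial (Fin n) k →+* R)) hC hX) x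

theorem ringKrullDim_polynomial : ringKrullDim (MvPolynomial (Fin n) k) = (n : WithBot ℕ∞) := by
  rw [MvPolynomial.ringKrullDim_of_isNoetherianRing, ringKrullDim_eq_zero_of_field, zero_add]
  simp

/-- A copy of `k[X][t]`. -/
def Aux (k : Type u) [Field k] (n : ℕ) : Type u := Polynomial (MvPolynomial (Fin n) k)

instance : CommRing (Aux k n) := inferInstanceAs (CommRing (Polynomial (MvPolynomial (Fin n) k)))
instance : IsDomain (Aux k n) := inferInstanceAs (IsDomain (Polynomial (MvPolynomial (Fin n) k)))
instance : Algebra k (Aux k n) := inferInstanceAs (Algebra k (Polynomial (MvPolynomial (Fin n) k)))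

/-- constants -/
def cA : MvPolynomial (Fin n) k →+* Aux k n := Polynomial.C

/-- the variable -/
def xA : Aux k n := (Polynomial.X : Polynomial (MvPolynomial (Fin n) k))

theorem xA_ne_zero : (xA : Aux k n) ≠ 0 := Polynomial.X_ne_zero

/-- evaluation -/
def evA {R : Type*} [CommRing R] (g : MvPolynomial (Fin n) k →+* R) (x : R) : Aux k n →+* R :=
  Polynomial.eval₂RingHom g x

theorem evA_cA {R : Type*} [CommRing R] (g : MvPolynomial (Fin n) k →+* R) (x : R) (s : MvPolynomial (Fin n) k) :
    evA g x (cA s) = g s := Polynomial.eval₂_C _ _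

theorem evA_xA {R : Type*} [CommRing R] (g : MvPolynomial (Fin n) k →+* R) (x : R) : evA g x xA = x :=
  Polynomial.eval₂_X _ _

/-- A copy of a quotient ring. -/
def AuxQ {T : Type u} [CommRing T] (I : Ideal T) : Type u := T ⧸ I

instance {T : Type u} [CommRing T] (I : Ideal T) : CommRing (AuxQ I) := inferInstanceAs (CommRing (T ⧸ I))

/-- the projection -/
def mkQ {T : Type u} [CommRing T] (I : Ideal T) : T →+* AuxQ I := Ideal.Quotient.mk I

theorem mkQ_eq_zero {T : Type u} [CommRing T] {I : Ideal T} {x : T} : mkQ I x = 0 ↔ x ∈ I :=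
  Ideal.Quotient.eq_zero_iff_mem

section Flat

variable [Algebra (Base k n) (MvPolynomial (Fin n) k)] [IsScalarTower k (Base k n) (MvPolynomial (Fin n) k)]
  [Module.Finite (Base k n) (MvPolynomial (Fin n) k)]

theorem flat_params : Module.Flat (Base k n) (MvPolynomial (Fin n) k) := by
  refine Module.flat_of_isLocalized_maximal (S := MvPolynomial (Fin n) k) (MvPolynomial (Fin n) k)
    (fun q _ => Localization.AtPrime q) (fun q _ => Algebra.linearMap _ _) fun q _ => ?_
  haveI := Groth.Agent.DualCxLib.gorenstein_of_regular (Localization.AtPrime q)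
  refine CMFlatLib.flat_of_isCM_quasiFiniteAt q GorLib.isCM_of_gorenstein ?_
  rw [IsLocalization.AtPrime.ringKrullDim_eq_height q (Localization.AtPrime q)]
  have h1 := FibDimLib.ringKrullDim_quotient_add_height_affine (k := k) (MvPolynomial (Fin n) k) q
  have h2 := FibDimLib.ringKrullDim_quotient_add_height_affine (k := k) (Base k n)
    (q.comap (algebraMap (Base k n) (MvPolynomial (Fin n) k)))
  rw [show ringKrullDim (Base k n) = (n : WithBot ℕ∞) from ringKrullDim_polynomial,
    ← CMFlatLib.ringKrullDim_quotient_eq_of_quasiFiniteAt (k := k) (A := Base k n) q] at h2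
  rw [ringKrullDim_polynomial] at h1
  obtain ⟨m, hm, -⟩ := FibDimLib.ringKrullDim_quotient_eq_trdeg k q
  rw [hm] at h1 h2
  rw [← h2] at h1
  generalize q.height = a at h1 h2 ⊢
  generalize (q.comap (algebraMap (Base k n) (MvPolynomial (Fin n) k))).height = b at h1 h2 ⊢
  have h3 : (m : ℕ∞) + a = m + b := by exact_mod_cast h1
  rw [WithTop.add_left_cancel (ENat.coe_ne_top m) h3]

theorem projective_params : Module.Projective (Base k n) (MvPolynomial (Fin n) k) := by
  haveI := flat_params (k := k) (n := n)
  haveI : Module.FinitePresentation (Base k n) (MvPolynomial (Fin n) k) :=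
    Module.finitePresentation_of_finite _ _
  exact Module.Flat.projective_of_finitePresentation

/-- the presentation `P[X] → k[X]` -/
def phi : MvPolynomial (Fin n) (Base k n) →ₐ[Base k n] MvPolynomial (Fin n) k := aeval X

theorem phi_map (p : MvPolynomial (Fin n) k) : phi (map (algebraMap k (Base k n)) p) = p := by
  rw [phi, aeval_map_algebraMap]
  exact aeval_X_left_apply p

theorem phi_surjective : Function.Surjective (phi (k := k) (n := n)) :=
  fun p => ⟨_, phi_map p⟩

variable (f : Fin n → MvPolynomial (Fin n) k)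
  (hf : ∀ i, algebraMap (Base k n) (MvPolynomial (Fin n) k) (tv i) = f i)

/-- the equations `f_i(X) - t_i` -/
def eqs (i : Fin n) : MvPolynomial (Fin n) (Base k n) := map (algebraMap k (Base k n)) (f i) - C (tv i)

include hf in
theorem ker_phi : RingHom.ker (phi (k := k) (n := n)).toRingHom = Ideal.span (Set.range (eqs f)) := by
  refine le_antisymm (fun p hp => ?_) ?_
  · let I := Ideal.span (Set.range (eqs f))
    have key : ∀ p : MvPolynomial (Fin n) (Base k n),
        Ideal.Quotient.mk I (map (algebraMap k (Base k n)) (phi p)) = Ideal.Quotient.mk I p := by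
      intro p
      refine RingHom.congr_fun (MvPolynomial.ringHom_ext
        (f := ((Ideal.Quotient.mk I).comp (map (algebraMap k (Base k n)))).comp phi.toRingHom)
        (g := Ideal.Quotient.mk I) (fun c => ?_) fun j => ?_) p
      · refine base_hom_ext (f := (((Ideal.Quotient.mk I).comp (map (algebraMap k (Base k n)))).comp phi.toRingHom).comp C)
          (g := (Ideal.Quotient.mk I).comp C) (fun c => ?_) (fun i => ?_) c
        · simp [phi, ← IsScalarTower.algebraMap_apply]
        · simp only [RingHom.comp_apply, AlgHom.toRingHom_eq_coe, RingHom.coe_coe, phi, aeval_C, hf]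
          exact (Ideal.Quotient.eq).2 (Ideal.subset_span ⟨i, rfl⟩)
      · simp [phi]
    have h := key p
    rw [show phi p = 0 from hp, map_zero, map_zero, eq_comm, Ideal.Quotient.eq_zero_iff_mem] at h
    exact h
  · rw [Ideal.span_le]
    rintro _ ⟨i, rfl⟩
    show phi (eqs f i) = 0
    rw [eqs, map_sub, phi_map, phi, aeval_C, hf, sub_self]

theorem map_eqs (i : Fin n) : map (algebraMap (Base k n) (MvPolynomial (Fin n) k)) (eqs f i) =
    map (algebraMap k (MvPolynomial (Fin n) k)) (f i) - C (algebraMap (Base k n) (MvPolynomial (Fin n) k) (tv i)) := by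
  rw [eqs, map_sub, MvPolynomial.map_map, map_C, ← IsScalarTower.algebraMap_eq]

include hf in
theorem regular_eqs (i : Fin n) (q : MvPolynomial (Fin n) (MvPolynomial (Fin n) k))
    (hq : map (algebraMap (Base k n) (MvPolynomial (Fin n) k)) (eqs f i) * q ∈
      Ideal.span ((fun l => map (algebraMap (Base k n) (MvPolynomial (Fin n) k)) (eqs f l)) '' {l | l ≠ i})) :
    q ∈ Ideal.span ((fun l => map (algebraMap (Base k n) (MvPolynomial (Fin n) k)) (eqs f l)) '' {l | l ≠ i}) := by
  classical
  let S := MvPolynomial (Fin n) k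
  let R := Aux k n
  let F : Fin n → MvPolynomial (Fin n) S := fun l => map (algebraMap (Base k n) S) (eqs f l)
  let I' := Ideal.span (F '' {l | l ≠ i})
  let ψ : MvPolynomial (Fin n) k →ₐ[k] R :=
    aeval fun l => cA (f l) + if l = i then xA else 0
  let ψ' : Base k n →+* R := ψ.toRingHom
  letI : Algebra (Base k n) R := ψ'.toAlgebra
  have hψt : ∀ l, ψ' (tv l) = cA (f l) + if l = i then xA else 0 := fun l =>
    aeval_X _ l
  have hψc : ∀ c : k, ψ' (algebraMap k (Base k n) c) = cA (algebraMap k S c) := fun c =>
    ψ.commutes c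
  let Θ : MvPolynomial (Fin n) S →+* R ⊗[Base k n] S :=
    eval₂Hom ((Algebra.TensorProduct.includeLeftRingHom : R →+* R ⊗[Base k n] S).comp cA)
      (fun j => (1 : R) ⊗ₜ[Base k n] (X j : S))
  have hbal : ∀ a : Base k n, (ψ' a) ⊗ₜ[Base k n] (1 : S) = (1 : R) ⊗ₜ[Base k n] (algebraMap (Base k n) S a) := by
    intro a
    rw [show ψ' a = a • (1 : R) from (Algebra.algebraMap_eq_smul_one (A := R) a), smul_tmul, ← Algebra.algebraMap_eq_smul_one]
  have hΘmap : ∀ p : S, Θ (map (algebraMap k S) p) = (1 : R) ⊗ₜ[Base k n] p := by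
    intro p
    refine RingHom.congr_fun (MvPolynomial.ringHom_ext (f := Θ.comp (map (algebraMap k S)))
      (g := (Algebra.TensorProduct.includeRight : S →ₐ[Base k n] R ⊗[Base k n] S).toRingHom) (fun c => ?_) fun j => ?_) p
    · show Θ (map (algebraMap k S) (C c)) = (1 : R) ⊗ₜ[Base k n] (C c : S)
      rw [map_C, show (C c : S) = algebraMap (Base k n) S (algebraMap k (Base k n) c) from
        IsScalarTower.algebraMap_apply k (Base k n) S c, ← hbal, hψc]
      simp [Θ]
    · simp [Θ]
  have hΘC : ∀ s : S, Θ (C s) = (cA s) ⊗ₜ[Base k n] (1 : S) := fun s => eval₂Hom_C _ _ s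
  have hΘF : ∀ l, Θ (F l) = (if l = i then xA else 0 : R) ⊗ₜ[Base k n] (1 : S) := by
    intro l
    show Θ (map (algebraMap (Base k n) S) (eqs f l)) = _
    rw [map_eqs, map_sub, hΘmap, hΘC, hf l, sub_eq_iff_eq_add, ← add_tmul, add_comm, ← hψt, hbal, hf l]
  have h0 : ∀ x ∈ I', Θ x = 0 := fun x hx => by
    induction hx using Submodule.span_induction with
    | mem x hx =>
      obtain ⟨l, hl, rfl⟩ := hx
      rw [hΘF, if_neg (show ¬ l = i from hl), zero_tmul]
    | zero => simp
    | add x y _ _ hx hy => rw [map_add, hx, hy, add_zero]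
    | smul a x _ hx => rw [smul_eq_mul, map_mul, hx, mul_zero]
  have hΘq : Θ q = 0 := by
    have h := h0 _ hq
    rw [map_mul, show Θ (map (algebraMap (Base k n) (MvPolynomial (Fin n) k)) (eqs f i)) = _ from hΘF i,
      if_pos rfl] at h
    haveI := flat_params (k := k) (n := n)
    let μ : R →ₗ[Base k n] R := LinearMap.mulLeft (Base k n) xA
    have hμ : Function.Injective μ := fun a b hab => mul_left_cancel₀ xA_ne_zero hab
    refine Module.Flat.rTensor_preserves_injective_linearMap (M := S) μ hμ ?_
    rw [map_zero, ← h]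
    generalize Θ q = z
    induction z using TensorProduct.induction_on with
    | zero => simp
    | add x y hx hy => rw [map_add, hx, hy, mul_add]
    | tmul x y => simp [μ]
  let Q := AuxQ I'
  let l1 : R →+* Q := evA ((mkQ I').comp C) (mkQ I' (F i))
  letI : Algebra (Base k n) Q := (l1.comp ψ').toAlgebra
  let l1' : R →ₐ[Base k n] Q := { l1 with commutes' := fun _ => rfl }
  let l2 : S →ₐ[Base k n] Q :=
    { (mkQ I').comp (map (algebraMap k S)) with
      commutes' := fun a => by
        refine base_hom_ext (f := ((mkQ I').comp (map (algebraMap k S))).comp (algebraMap (Base k n) S))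
          (g := l1.comp ψ') (fun c => ?_) (fun l => ?_) a
        · rw [RingHom.comp_apply, RingHom.comp_apply, RingHom.comp_apply, ← IsScalarTower.algebraMap_apply,
            MvPolynomial.algebraMap_eq, map_C, hψc]
          erw [evA_cA]
          rfl
        · rw [RingHom.comp_apply, RingHom.comp_apply, RingHom.comp_apply, hf, hψt]
          by_cases hl : l = i
          · subst hl
            simp only [if_true, l1, map_add]
            erw [evA_cA, evA_xA]
            rw [RingHom.comp_apply, ← map_add]
            refine congrArg _ ?_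
            show _ = C (f l) + map (algebraMap (Base k n) S) (eqs f l)
            rw [map_eqs, hf]
            ring
          · simp only [if_neg hl, add_zero, l1]
            erw [evA_cA]
            rw [RingHom.comp_apply, ← sub_eq_zero, ← map_sub, mkQ_eq_zero]
            refine Ideal.subset_span ⟨l, hl, ?_⟩
            show map (algebraMap (Base k n) S) (eqs f l) = _
            rw [map_eqs, hf] }
  let Λ : R ⊗[Base k n] S →ₐ[Base k n] Q := Algebra.TensorProduct.lift l1' l2 (fun _ _ => Commute.all _ _)
  have hΛΘ : ∀ x, Λ (Θ x) = mkQ I' x := by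
    intro x
    refine RingHom.congr_fun (MvPolynomial.ringHom_ext (f := Λ.toRingHom.comp Θ) (g := mkQ I')
      (fun s => ?_) fun j => ?_) x
    · show Λ (Θ (C s)) = _
      rw [hΘC, Algebra.TensorProduct.lift_tmul, map_one, mul_one]
      exact evA_cA _ _ _
    · show Λ (Θ (X j)) = _
      rw [show Θ (X j) = (1 : R) ⊗ₜ[Base k n] (X j : S) from eval₂Hom_X' _ _ j, Algebra.TensorProduct.lift_tmul,
        map_one, one_mul]
      show mkQ I' (map (algebraMap k S) (X j)) = _
      rw [map_X]
  have := hΛΘ q
  rw [hΘq, map_zero] at this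
  exact mkQ_eq_zero.1 this.symm

end Flat

theorem gorenstein_of_params (G : Type u) [Group G] [Finite G] (hG : IsUnit ((Nat.card G : ℕ) : k))
    [MulSemiringAction G (MvPolynomial (Fin n) k)] [SMulCommClass G k (MvPolynomial (Fin n) k)]
    (ρ : G → Matrix (Fin n) (Fin n) k) (hdet : ∀ g, (ρ g).det = 1)
    (hX : ∀ (g : G) (i : Fin n), g • (X i : MvPolynomial (Fin n) k) = ∑ j, ρ g j i • (X j : MvPolynomial (Fin n) k))
    (f : Fin n → MvPolynomial (Fin n) k) (hfG : ∀ (g : G) i, g • f i = f i) (hfin : (aeval f : MvPolynomial (Fin n) k →ₐ[k] MvPolynomial (Fin n) k).Finite) :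
    LocCoh.IsGorensteinRing (FixedPoints.subalgebra k (MvPolynomial (Fin n) k) G) := by
  classical
  let S := MvPolynomial (Fin n) k
  let aP : MvPolynomial (Fin n) k →+* S := (aeval f : MvPolynomial (Fin n) k →ₐ[k] S).toRingHom
  letI : Algebra (Base k n) S := (aP : Base k n →+* S).toAlgebra
  haveI : IsScalarTower k (Base k n) S := IsScalarTower.of_algebraMap_eq fun c => ((aeval f).commutes c).symm
  haveI : Module.Finite (Base k n) S := hfin
  have hf : ∀ i, algebraMap (Base k n) S (tv i) = f i := fun i => aeval_X f i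
  have hgk : ∀ (g : G) (c : k), g • algebraMap k S c = algebraMap k S c := fun g c => smul_algebraMap g c
  have hGP : ∀ (g : G) (a : Base k n), g • algebraMap (Base k n) S a = algebraMap (Base k n) S a := by
    intro g a
    refine base_hom_ext (f := (MulSemiringAction.toRingHom G S g).comp (algebraMap (Base k n) S))
      (g := algebraMap (Base k n) S) (fun c => ?_) (fun i => ?_) a
    · simp only [RingHom.comp_apply, MulSemiringAction.toRingHom_apply, ← IsScalarTower.algebraMap_apply, hgk]
    · simp only [RingHom.comp_apply, MulSemiringAction.toRingHom_apply, hf, hfG]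
  haveI : SMulCommClass G (Base k n) S :=
    ⟨fun g a x => by rw [Algebra.smul_def, Algebra.smul_def, smul_mul', hGP]⟩
  haveI : IsNoetherianRing (Base k n) := Algebra.FiniteType.isNoetherianRing k _
  haveI := projective_params (k := k) (n := n)
  let σ : G → S →ₐ[Base k n] S := fun g => MulSemiringAction.toAlgHom (Base k n) S g
  have hσ : ∀ g x, σ g x = g • x := fun g x => rfl
  obtain ⟨b, hb⟩ := TateLib.exists_matrix (ker_phi f hf)
  let Δ := TateLib.theta phi b.det
  let L := LinearEquiv.ofBijective _ (pair_delta_bijective phi_surjective (ker_phi f hf) hb)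
  have hL : ∀ l, L l = QFDualLib.pair Δ l := fun _ => rfl
  have hinv : ∀ g : G, Algebra.TensorProduct.map (σ g) (σ g) Δ = Δ := by
    intro g
    let sg : S →+* S := (σ g).toRingHom
    let W : MvPolynomial (Fin n) S →+* MvPolynomial (Fin n) S :=
      eval₂Hom (C.comp sg) fun j => ∑ l, C (algebraMap k S (ρ g l j)) * X l
    let R : Matrix (Fin n) (Fin n) (MvPolynomial (Fin n) S) :=
      (ρ g).transpose.map (C.comp (algebraMap k S) : k →+* MvPolynomial (Fin n) S)
    have hWC : ∀ s, W (C s) = C (g • s) := fun s => eval₂Hom_C _ _ s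
    have hWX : ∀ j, W (X j) = ∑ l, R j l * X l := fun j => eval₂Hom_X' _ _ j
    have hgX : ∀ j, g • (X j : S) = ∑ l, algebraMap k S (ρ g l j) * X l := fun j => by
      rw [hX]; simp only [Algebra.smul_def]; rfl
    have hWmap : ∀ p : S, W (map (algebraMap k S) p) = map (algebraMap k S) (g • p) := by
      intro p
      refine RingHom.congr_fun (MvPolynomial.ringHom_ext (f := W.comp (map (algebraMap k S)))
        (g := (map (algebraMap k S)).comp (MulSemiringAction.toRingHom G S g)) (fun c => ?_) fun j => ?_) p
      · show W (map (algebraMap k S) (C c)) = map (algebraMap k S) (g • (C c : S))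
        simp only [map_C, hWC]
        rw [← MvPolynomial.algebraMap_eq (R := k), hgk, MvPolynomial.algebraMap_eq, map_C]
      · show W (map (algebraMap k S) (X j)) = map (algebraMap k S) (g • (X j : S))
        simp only [map_X, hWX, hgX, map_sum, map_mul]
        refine Finset.sum_congr rfl fun l _ => ?_
        rw [show algebraMap k S (ρ g l j) = C (ρ g l j) from rfl, map_C]
        rfl
    have hWC' : ∀ j, W (C (X j : S)) = ∑ l, R j l * C (X l : S) := fun j => by
      rw [hWC, hgX, map_sum]
      simp only [map_mul]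
      rfl
    have hb' : ∀ i, map (algebraMap (Base k n) S) (eqs f i) = ∑ l, (b.map W * R) i l * (X l - C (phi (X l))) := by
      intro i
      have h := congrArg W (hb i)
      rw [map_sum] at h
      have e : W (map (algebraMap (Base k n) S) (eqs f i)) = map (algebraMap (Base k n) S) (eqs f i) := by
        rw [map_eqs, map_sub, hWmap, hWC, hfG, hGP]
      rw [e] at h
      rw [h]
      simp only [Matrix.mul_apply, Finset.sum_mul, Matrix.map_apply]
      rw [Finset.sum_comm]
      refine Finset.sum_congr rfl fun j _ => ?_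
      simp only [phi, aeval_X, map_mul, map_sub, hWX, hWC', ← Finset.sum_sub_distrib, Finset.mul_sum]
      refine Finset.sum_congr rfl fun l _ => ?_
      ring
    have hT : ∀ q, TateLib.theta phi (W q) = Algebra.TensorProduct.map (σ g) (σ g) (TateLib.theta phi q) := by
      intro q
      refine RingHom.congr_fun (MvPolynomial.ringHom_ext (f := (TateLib.theta phi).comp W)
        (g := (Algebra.TensorProduct.map (σ g) (σ g)).toRingHom.comp (TateLib.theta phi)) (fun s => ?_) fun j => ?_) q
      · simp [hWC, TateLib.theta, hσ]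
      · simp only [RingHom.comp_apply, AlgHom.toRingHom_eq_coe, RingHom.coe_coe, hWX, map_sum, map_mul]
        simp only [TateLib.theta, eval₂Hom_X', phi, aeval_X, Algebra.TensorProduct.map_tmul, hσ, hgX, map_one,
          TensorProduct.sum_tmul]
        refine Finset.sum_congr rfl fun l _ => ?_
        simp only [R, Matrix.map_apply, Matrix.transpose_apply, RingHom.comp_apply, eval₂Hom_C]
        show ((1 : S) ⊗ₜ[Base k n] algebraMap k S (ρ g l j)) * ((X l : S) ⊗ₜ[Base k n] (1 : S)) = _
        rw [Algebra.TensorProduct.tmul_mul_tmul, one_mul, mul_one, IsScalarTower.algebraMap_apply k (Base k n) S,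
          Algebra.algebraMap_eq_smul_one (A := S), tmul_smul, smul_tmul', Algebra.smul_def, Algebra.smul_def, mul_one, smul_one]
    have hR : R.det = 1 := by
      rw [show R = (C.comp (algebraMap k S) : k →+* MvPolynomial (Fin n) S).mapMatrix (ρ g).transpose from rfl,
        ← RingHom.map_det, Matrix.det_transpose, hdet, map_one]
    have hdetW : (b.map W * R).det = W b.det := by
      rw [Matrix.det_mul, hR, mul_one, ← RingHom.mapMatrix_apply, ← RingHom.map_det]
    rw [← hT, ← hdetW]
    exact theta_det_eq (ker_phi f hf) hb' hb (regular_eqs f hf)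
  have hpair : ∀ (g : G) (ξ : S ⊗[Base k n] S) (l : Disc.Omega (Base k n) S),
      QFDualLib.pair (Algebra.TensorProduct.map (σ g) (σ g) ξ) l =
        g • QFDualLib.pair ξ ⟨l.toLinearMap.comp (σ g).toLinearMap⟩ := by
    intro g ξ l
    induction ξ using TensorProduct.induction_on with
    | zero => simp [QFDualLib.pair]
    | add x y hx hy => simp only [map_add, QFDualLib.pair_add, hx, hy, smul_add]
    | tmul x y =>
      rw [Algebra.TensorProduct.map_tmul, QFDualLib.pair_tmul, QFDualLib.pair_tmul, smul_comm]
      rfl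
  have hLg : ∀ (g : G) l, g • L ⟨l.toLinearMap.comp (σ g).toLinearMap⟩ = L l := fun g l => by
    rw [hL, hL, ← hpair, hinv]
  obtain ⟨θ, hθ⟩ := L.surjective 1
  have hθG : ∀ (g : G) (x : S), θ.toLinearMap (g • x) = θ.toLinearMap x := by
    intro g x
    have h1 := hLg g θ
    rw [hθ] at h1
    have h2 : L ⟨θ.toLinearMap.comp (σ g).toLinearMap⟩ = L θ := by
      rw [hθ, ← smul_one g⁻¹, ← h1, inv_smul_smul]
    exact LinearMap.congr_fun (congrArg Disc.Omega.toLinearMap (L.injective h2)) x
  have hrep : ∀ l : Disc.Omega (Base k n) S, L l • θ = l := fun l =>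
    L.injective (by rw [map_smul, hθ, smul_eq_mul, mul_one])
  -- the invariants and the Reynolds operator
  let A' : Subalgebra (Base k n) S := FixedPoints.subalgebra (Base k n) S G
  haveI := Fintype.ofFinite G
  let c : k := ((Nat.card G : ℕ) : k)⁻¹
  have hc : c * ((Nat.card G : ℕ) : k) = 1 := inv_mul_cancel₀ hG.ne_zero
  let r0 : S →ₗ[Base k n] S :=
    { toFun := fun x => c • ∑ g : G, g • x
      map_add' := fun x y => by simp only [smul_add, Finset.sum_add_distrib]
      map_smul' := fun a x => by
        simp only [RingHom.id_apply, smul_comm _ a, Finset.smul_sum] }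
  have hr0 : ∀ x, r0 x ∈ A' := fun x g => by
    show g • (c • ∑ h : G, h • x) = c • ∑ h : G, h • x
    rw [smul_comm, Finset.smul_sum]
    simp only [smul_smul]
    rw [Fintype.sum_equiv (Equiv.mulLeft g) (fun h => (g * h) • x) (fun h => h • x) (fun h => rfl)]
  let rey : S →ₗ[Base k n] A' := r0.codRestrict (Subalgebra.toSubmodule A') hr0
  have hreyA : ∀ a : A', rey a = a := fun a => Subtype.ext (by
    show c • ∑ g : G, g • (a : S) = a
    rw [Finset.sum_congr rfl (fun g _ => a.2 g), Finset.sum_const, ← Nat.cast_smul_eq_nsmul k, smul_smul,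
      Finset.card_univ, ← Nat.card_eq_fintype_card, hc, one_smul])
  have hreyθ : ∀ (a : A') (x : S), θ.toLinearMap ((a : S) * (rey x : S)) = θ.toLinearMap ((a : S) * x) := by
    intro a x
    show θ.toLinearMap ((a : S) * (c • ∑ g : G, g • x)) = _
    rw [mul_smul_comm, Finset.mul_sum, ← IsScalarTower.algebraMap_smul (Base k n) c (∑ _g, _), map_smul, map_sum]
    have : ∀ g : G, θ.toLinearMap ((a : S) * g • x) = θ.toLinearMap ((a : S) * x) := fun g => by
      rw [← hθG g ((a : S) * x), smul_mul', show g • (a : S) = a from a.2 g]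
    simp only [this, Finset.sum_const, Finset.card_univ]
    rw [smul_eq_mul, nsmul_eq_mul, ← mul_assoc, ← map_natCast (algebraMap k (Base k n)), ← map_mul,
      ← Nat.card_eq_fintype_card, hc, map_one, one_mul]
  have hincl : rey.comp A'.val.toLinearMap = LinearMap.id := LinearMap.ext hreyA
  haveI : Module.Projective (Base k n) A' := Module.Projective.of_split A'.val.toLinearMap rey hincl
  haveI : Module.Finite (Base k n) A' := Module.Finite.of_surjective rey fun a => ⟨a, hreyA a⟩
  let θ' : A' →ₗ[Base k n] Base k n := θ.toLinearMap.comp A'.val.toLinearMap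
  have hdual : ∀ l : A' →ₗ[Base k n] Base k n, ∃ a : A', ∀ x, θ' (a * x) = l x := by
    intro l
    let l' : Disc.Omega (Base k n) S := ⟨l.comp rey⟩
    have hl : ∀ g : G, (⟨l'.toLinearMap.comp (σ g).toLinearMap⟩ : Disc.Omega (Base k n) S) = l' := fun g => by
      refine Disc.Omega.ext (LinearMap.ext fun x => congrArg l (Subtype.ext ?_))
      show c • ∑ h : G, h • (g • x) = c • ∑ h : G, h • x
      simp only [smul_smul]
      rw [Fintype.sum_equiv (Equiv.mulRight g) (fun h => (h * g) • x) (fun h => h • x) (fun h => rfl)]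
    have hcA : L l' ∈ A' := fun g => by
      have h1 := hLg g l'
      rw [hl] at h1
      exact h1
    refine ⟨⟨L l', hcA⟩, fun x => ?_⟩
    have h2 := LinearMap.congr_fun (congrArg Disc.Omega.toLinearMap (hrep l')) (x : S)
    rw [Disc.Omega.smul_toLinearMap_apply] at h2
    exact h2.trans (congrArg l (hreyA x))
  haveI : IsNoetherianRing A' := IsNoetherianRing.of_finite (Base k n) A'
  have hA' : LocCoh.IsGorensteinRing A' := by
    refine { isGorensteinLocalRing_localization := fun r _ => ?_ }
    refine (GorLib.gorenstein_localization_iff_of_fibre (R := Base k n) r ?_).1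
      ((GorLib.gorensteinRing_of_isRegularRing (R := Base k n)).isGorensteinLocalRing_localization _)
    let p := r.comap (algebraMap (Base k n) A')
    let κ := p.ResidueField
    let F := κ ⊗[Base k n] A'
    let θκ : F →ₗ[κ] κ :=
      (TensorProduct.AlgebraTensorModule.rid (Base k n) κ κ).toLinearMap.comp (θ'.baseChange κ)
    have hθκ : ∀ (c : κ) (a : A'), θκ (c ⊗ₜ a) = θ' a • c := fun c a => rfl
    obtain ⟨m, x, co, hxc⟩ := exists_dual_family (A := Base k n) (B := A')
    choose a ha using fun i => hdual (co i)
    let E : F →ₗ[F] Disc.Omega κ F := LinearMap.toSpanSingleton F _ ⟨θκ⟩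
    have hE : Function.Surjective E := fun l => by
      refine ⟨∑ i, l.toLinearMap (1 ⊗ₜ x i) ⊗ₜ a i, Disc.Omega.ext (LinearMap.ext fun z => ?_)⟩
      show θκ ((∑ i, l.toLinearMap (1 ⊗ₜ x i) ⊗ₜ a i) * z) = l.toLinearMap z
      induction z using TensorProduct.induction_on with
      | zero => simp
      | add y z hy hz => rw [mul_add, map_add, map_add, hy, hz]
      | tmul d y =>
        rw [Finset.sum_mul, map_sum]
        simp only [Algebra.TensorProduct.tmul_mul_tmul, hθκ, ha]
        conv_rhs => rw [← hxc y, tmul_sum, map_sum]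
        refine Finset.sum_congr rfl fun i _ => ?_
        rw [tmul_smul, show d ⊗ₜ[Base k n] x i = d • ((1 : κ) ⊗ₜ[Base k n] x i) by
          rw [smul_tmul', smul_eq_mul, mul_one], LinearMap.map_smul_of_tower, map_smul, smul_eq_mul, mul_comm d]
    let toD : F →ₗ[κ] Module.Dual κ F :=
      { toFun := fun y => (E y).toLinearMap
        map_add' := fun y z => by rw [map_add]; rfl
        map_smul' := fun d y => by
          refine LinearMap.ext fun z => ?_
          show θκ ((d • y) * z) = d • θκ (y * z)
          rw [smul_mul_assoc, map_smul] }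
    have htoD : Function.Surjective toD := fun l => by
      obtain ⟨y, hy⟩ := hE ⟨l⟩
      exact ⟨y, congrArg Disc.Omega.toLinearMap hy⟩
    have hinj : Function.Injective E := fun y z hyz => by
      refine (LinearMap.injective_iff_surjective_of_finrank_eq_finrank (Subspace.dual_finrank_eq).symm).2 htoD ?_
      exact congrArg Disc.Omega.toLinearMap hyz
    exact (TateLib.invertible_omega_iff_gorenstein κ F).1
      (Module.Invertible.congr (LinearEquiv.ofBijective E ⟨hinj, hE⟩))
  exact GorLib.gorensteinRing_of_ringEquiv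
    ({ toFun := fun x => ⟨x.1, x.2⟩
       invFun := fun x => ⟨x.1, x.2⟩
       map_mul' := fun _ _ => rfl
       map_add' := fun _ _ => rfl } : FixedPoints.subalgebra k S G ≃+* A') hA'

/-- invariant parameters -/
theorem exists_params (G : Type u) [Group G] [Finite G] [MulSemiringAction G (MvPolynomial (Fin n) k)]
    [SMulCommClass G k (MvPolynomial (Fin n) k)] :
    ∃ f : Fin n → MvPolynomial (Fin n) k, (∀ (g : G) i, g • f i = f i) ∧ (aeval f : MvPolynomial (Fin n) k →ₐ[k] MvPolynomial (Fin n) k).Finite := by
  let S := MvPolynomial (Fin n) k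
  let A0 := FixedPoints.subalgebra k S G
  haveI : Algebra.IsInvariant A0 S G := ⟨fun b hb => ⟨⟨b, hb⟩, rfl⟩⟩
  haveI : SMulCommClass G A0 S := ⟨fun g a x => by
    rw [Subalgebra.smul_def, Subalgebra.smul_def, smul_eq_mul, smul_eq_mul, smul_mul', show g • (a : S) = a from a.2 g]⟩
  haveI : Algebra.IsIntegral A0 S := Algebra.IsInvariant.isIntegral A0 S G
  haveI : Module.Finite A0 S := by
    haveI : Algebra.FiniteType A0 S := Algebra.FiniteType.of_restrictScalars_finiteType k A0 S
    exact Algebra.IsIntegral.finite
  haveI : Algebra.FiniteType k A0 := ⟨fg_of_fg_of_fg k A0 S Algebra.FiniteType.out Module.Finite.fg_top Subtype.val_injective⟩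
  obtain ⟨s, g, hg, hgf⟩ := exists_finite_inj_algHom_of_fg k A0
  let h : MvPolynomial (Fin s) k →ₐ[k] S := A0.val.comp g
  have hhf : h.Finite := (RingHom.finite_algebraMap.2 ‹Module.Finite A0 S›).comp hgf
  have hs : s = n := by
    letI := h.toRingHom.toAlgebra
    haveI : Module.Finite (MvPolynomial (Fin s) k) S := hhf
    have e := CommAlgDim.ringKrullDim_eq_of_integral (MvPolynomial (Fin s) k) S (Subtype.val_injective.comp hg)
    rw [ringKrullDim_polynomial, ringKrullDim_polynomial] at e
    exact_mod_cast e.symm
  subst hs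
  refine ⟨fun i => h (X i), fun γ i => (g (X i)).2 γ, ?_⟩
  rw [aeval_unique h] at hhf
  exact hhf

end

end InvGorLib
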